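import Mathlib

/-!
# Commutator expressions with a double transposition inside
-/

set_option autoImplicit false

namespace Cfsg.Agent.AltDouble

open Equiv Equiv.Perm

/-- Two disjoint transpositions occur among the cycles of `b`. -/
def Pattern {α : Type*} (b : Perm α) : Prop :=
  ∃ u v w x : α, u ≠ v ∧ u ≠ w ∧ u ≠ x ∧ v ≠ w ∧ v ≠ x ∧ w ≠ x ∧ b u = v ∧ b v = u ∧ b w = x ∧ b x = w

variable {α : Type*} [Fintype α] [DecidableEq α]

/-- `g` is the commutator of two even permutations, the second with two transpositions as cycles. -/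
def Good (g : Perm α) : Prop :=
  ∃ a b : Perm α, sign a = 1 ∧ sign b = 1 ∧ a * b * a⁻¹ * b⁻¹ = g ∧ Pattern b

/-- The same inside the support of `g`. -/
def GoodOn (g : Perm α) : Prop :=
  ∃ a b : Perm α, sign a = 1 ∧ sign b = 1 ∧ a * b * a⁻¹ * b⁻¹ = g ∧ Pattern b ∧
    a.support ⊆ g.support ∧ b.support ⊆ g.support

theorem GoodOn.good {g : Perm α} (h : GoodOn g) : Good g := by
  obtain ⟨a, b, ha, hb, e, hp, -, -⟩ := h
  exact ⟨a, b, ha, hb, e, hp⟩

theorem Good.conj {g : Perm α} (h : Good g) (σ : Perm α) : Good (σ * g * σ⁻¹) := by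
  obtain ⟨a, b, ha, hb, e, u, v, w, x, h1, h2, h3, h4, h5, h6, e1, e2, e3, e4⟩ := h
  refine ⟨σ * a * σ⁻¹, σ * b * σ⁻¹, by simp [ha], by simp [hb], by rw [← e]; group,
    σ u, σ v, σ w, σ x, σ.injective.ne h1, σ.injective.ne h2, σ.injective.ne h3, σ.injective.ne h4,
    σ.injective.ne h5, σ.injective.ne h6, ?_, ?_, ?_, ?_⟩ <;> simp [e1, e2, e3, e4]

theorem GoodOn.conj {g : Perm α} (h : GoodOn g) (σ : Perm α) : GoodOn (σ * g * σ⁻¹) := by
  obtain ⟨a, b, ha, hb, e, ⟨u, v, w, x, h1, h2, h3, h4, h5, h6, e1, e2, e3, e4⟩, sa, sb⟩ := h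
  refine ⟨σ * a * σ⁻¹, σ * b * σ⁻¹, by simp [ha], by simp [hb], by rw [← e]; group,
    ⟨σ u, σ v, σ w, σ x, σ.injective.ne h1, σ.injective.ne h2, σ.injective.ne h3, σ.injective.ne h4,
    σ.injective.ne h5, σ.injective.ne h6, ?_, ?_, ?_, ?_⟩, ?_, ?_⟩
  iterate 4 (simp [e1, e2, e3, e4])
  · rw [support_conj, support_conj]; exact Finset.map_subset_map.2 sa
  · rw [support_conj, support_conj]; exact Finset.map_subset_map.2 sb

/-- A permutation made from a list of values and the list of values of its inverse. -/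
def ofLists {n : ℕ} (f g : Fin n → Fin n) (h₁ : ∀ i, g (f i) = i) (h₂ : ∀ i, f (g i) = i) :
    Perm (Fin n) := ⟨f, g, h₁, h₂⟩

/-- A permutation of `β` with no fixed point has the cycle type of a good permutation of `Fin m`. -/
theorem goodOn_of_model {m : ℕ} {g₀ : Perm (Fin m)} (hfull : g₀.support = Finset.univ) (h : Good g₀)
    {g : Perm α} (hct : g₀.cycleType = g.cycleType) : GoodOn g := by
  obtain ⟨a, b, ha, hb, e, u, v, w, x, h1, h2, h3, h4, h5, h6, e1, e2, e3, e4⟩ := h
  have hm : g.support.card = m := by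
    rw [← sum_cycleType g, ← hct, sum_cycleType, hfull, Finset.card_univ, Fintype.card_fin]
  set E : Fin m ≃ {y : α // y ∈ g.support} := (Finset.equivFinOfCardEq hm).symm with hE
  let φ : Perm (Fin m) →* Perm α := extendDomainHom E
  let f : Fin m ↪ α := E.toEmbedding.trans (Function.Embedding.subtype _)
  have hφ : ∀ (σ : Perm (Fin m)) i, φ σ (f i) = f (σ i) := fun σ i =>
    extendDomain_apply_image σ E i
  have hout : ∀ (σ : Perm (Fin m)) y, y ∉ g.support → φ σ y = y := fun σ y hy =>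
    extendDomain_apply_not_subtype σ E hy
  have hsgn : ∀ σ : Perm (Fin m), sign (φ σ) = sign σ := fun σ => sign_extendDomain σ E
  have hctφ : (φ g₀).cycleType = g₀.cycleType := cycleType_extendDomain E
  obtain ⟨σ, hσ⟩ := isConj_iff.1 (isConj_iff_cycleType_eq.2 (hctφ.trans hct))
  have hsub : ∀ τ : Perm (Fin m), (φ τ).support ⊆ (φ g₀).support := by
    intro τ y hy
    rw [mem_support] at hy ⊢
    by_cases hr : y ∈ g.support
    · obtain ⟨i, hi⟩ := E.surjective ⟨y, hr⟩
      have hy' : y = f i := (congrArg Subtype.val hi).symm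
      rw [hy', hφ]
      exact f.injective.ne (mem_support.1 (hfull ▸ Finset.mem_univ i))
    · exact absurd (hout τ y hr) hy
  rw [← hσ]
  refine GoodOn.conj ⟨φ a, φ b, (hsgn a).trans ha, (hsgn b).trans hb,
    by rw [← e, map_mul, map_mul, map_mul, map_inv, map_inv], ⟨f u, f v, f w, f x, f.injective.ne h1,
      f.injective.ne h2, f.injective.ne h3, f.injective.ne h4, f.injective.ne h5, f.injective.ne h6,
      by rw [hφ, e1], by rw [hφ, e2], by rw [hφ, e3], by rw [hφ, e4]⟩, hsub a, hsub b⟩ σ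

end Cfsg.Agent.AltDouble
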