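import Mathlib

/-!
# A permutation as a product of two involutions
-/

set_option autoImplicit false

namespace Cfsg.Agent.AltDouble

open Equiv Equiv.Perm

variable {α : Type*} [Fintype α] [DecidableEq α]

/-- `s` and `t` are involutions inside the support of `g` with product `g`. -/
structure Refl (g s t : Perm α) : Prop where
  sinv : s * s = 1
  tinv : t * t = 1
  eq : g = t * s
  ssub : s.support ⊆ g.support
  tsub : t.support ⊆ g.support
  count : s.support.card + t.support.card + 2 * g.cycleType.card = 2 * g.support.card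

/-- `t` moves two points more than `s` if `g` is odd, as many if `g` is even. -/
def Balanced (g s t : Perm α) : Prop :=
  (sign g = 1 → s.support.card = t.support.card) ∧ (sign g = -1 → s.support.card + 2 = t.support.card)

theorem sign_of_inv {s : Perm α} (h : s * s = 1) :
    Even s.support.card ∧ sign s = (-1) ^ (s.support.card / 2) := by
  have hc : ∀ c ∈ s.cycleType, c = 2 := by
    intro c hc
    have h2 : c ∣ 2 := (dvd_of_mem_cycleType hc).trans (orderOf_dvd_of_pow_eq_one (by rw [pow_two, h]))
    exact le_antisymm (Nat.le_of_dvd two_pos h2) (two_le_of_mem_cycleType hc)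
  have hr : s.cycleType = Multiset.replicate (Multiset.card s.cycleType) 2 :=
    Multiset.eq_replicate_card.2 hc
  have hsum := sum_cycleType s
  rw [hr, Multiset.sum_replicate, smul_eq_mul] at hsum
  refine ⟨⟨Multiset.card s.cycleType, by omega⟩, ?_⟩
  rw [sign_of_cycleType', hr, Multiset.map_replicate, Multiset.prod_replicate]
  rw [show (-(-1 : ℤˣ) ^ 2) = -1 by decide]
  congr 1
  rw [← hsum, Nat.mul_div_cancel _ two_pos]

theorem cycleType_inv_eq {s t : Perm α} (hs : s * s = 1) (ht : t * t = 1)
    (h : s.support.card = t.support.card) : s.cycleType = t.cycleType := by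
  have key : ∀ r : Perm α, r * r = 1 → r.cycleType = Multiset.replicate (r.support.card / 2) 2 := by
    intro r hr
    have hc : ∀ c ∈ r.cycleType, c = 2 := by
      intro c hc
      have h2 : c ∣ 2 := (dvd_of_mem_cycleType hc).trans (orderOf_dvd_of_pow_eq_one (by rw [pow_two, hr]))
      exact le_antisymm (Nat.le_of_dvd two_pos h2) (two_le_of_mem_cycleType hc)
    have hrep : r.cycleType = Multiset.replicate (Multiset.card r.cycleType) 2 :=
      Multiset.eq_replicate_card.2 hc
    have hsum := sum_cycleType r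
    rw [hrep, Multiset.sum_replicate, smul_eq_mul] at hsum
    rw [← hsum, Nat.mul_div_cancel _ two_pos]
    exact hrep
  rw [key s hs, key t ht, h]

/-- Exchanging the numbers of moved points. -/
theorem Refl.swapped {g s t : Perm α} (h : Refl g s t) :
    Refl g t (t * s * t⁻¹) ∧ t.support.card = t.support.card ∧ (t * s * t⁻¹).support.card = s.support.card := by
  have hti : t⁻¹ = t := inv_eq_of_mul_eq_one_right h.tinv
  have hc : (t * s * t⁻¹).support.card = s.support.card := card_support_conj
  refine ⟨⟨h.tinv, ?_, ?_, h.tsub, ?_, ?_⟩, rfl, hc⟩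
  · rw [show t * s * t⁻¹ * (t * s * t⁻¹) = t * (s * s) * t⁻¹ by group, h.sinv]; group
  · rw [inv_mul_cancel_right, h.eq]
  · intro y hy
    rw [support_conj, Finset.mem_map] at hy
    obtain ⟨z, hz, rfl⟩ := hy
    rw [Equiv.coe_toEmbedding]
    by_cases hzt : z ∈ t.support
    · exact h.tsub (apply_mem_support.2 hzt)
    · rw [notMem_support.1 hzt]; exact h.ssub hz
  · have := h.count
    rw [hc]; omega

theorem exists_reflect (g : Perm α) : ∃ s t : Perm α, Refl g s t ∧ Balanced g s t := by
  refine cycle_induction_on (P := fun g => ∃ s t : Perm α, Refl g s t ∧ Balanced g s t) g ?_ ?_ ?_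
  · exact ⟨1, 1, ⟨by simp, by simp, by simp, by simp, by simp, by simp⟩, fun _ => rfl,
      fun h => absurd h (by simp)⟩
  · intro g hg
    obtain ⟨x₀, hx₀, -⟩ := id hg
    have hx₀' : x₀ ∈ g.support := mem_support.2 hx₀
    obtain ⟨σ₀, hσ₀⟩ := isConj_iff.1 (isConj_iff_cycleType_eq.2 (cycleType_inv g).symm)
    -- an inverting element fixing `x₀`
    have hσx : σ₀ x₀ ∈ g.support := by
      have h1 : σ₀ x₀ ∈ (σ₀ * g * σ₀⁻¹).support := by
        rw [mem_support]
        simpa using hx₀
      rwa [hσ₀, support_inv] at h1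
    obtain ⟨k, hk⟩ := hg.exists_zpow_eq (mem_support.1 hσx) hx₀
    set σ := g ^ k * σ₀ with hσdef
    have hσ : σ * g * σ⁻¹ = g⁻¹ := by
      rw [hσdef, show g ^ k * σ₀ * g * (g ^ k * σ₀)⁻¹ = g ^ k * (σ₀ * g * σ₀⁻¹) * (g ^ k)⁻¹ by group, hσ₀]
      group
    have hσ0 : σ x₀ = x₀ := by simp [hσdef, hk]
    have hinv : ∀ y, σ y ∈ g.support ↔ y ∈ g.support := by
      intro y
      have h1 : σ y ∈ g.support ↔ σ y ∈ (σ * g * σ⁻¹).support := by rw [hσ, support_inv]
      rw [h1, mem_support, mem_support]
      simp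
    set s := ofSubtype (σ.subtypePerm (p := fun y => y ∈ g.support) (fun y => hinv y)) with hsdef
    have hs1 : ∀ y ∈ g.support, s y = σ y := fun y hy => by
      rw [hsdef, ofSubtype_apply_of_mem _ hy]
      rfl
    have hs0 : ∀ y, y ∉ g.support → s y = y := fun y hy => by
      rw [hsdef, ofSubtype_apply_of_not_mem _ hy]
    have hsx : s x₀ = x₀ := by rw [hs1 _ hx₀', hσ0]
    have hsg : ∀ y, s (g y) = g⁻¹ (s y) := by
      intro y
      by_cases hy : y ∈ g.support
      · rw [hs1 y hy, hs1 _ (apply_mem_support.2 hy), ← hσ]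
        simp
      · rw [notMem_support.1 hy, hs0 y hy]
        exact (inv_eq_iff_eq.2 (notMem_support.1 hy).symm).symm
    have hpow : ∀ i : ℤ, s ((g ^ i) x₀) = (g ^ (-i)) x₀ := by
      intro i
      induction i using Int.induction_on with
      | zero => simpa using hsx
      | succ j ih =>
        rw [show (g ^ ((j : ℤ) + 1)) x₀ = g ((g ^ (j : ℤ)) x₀) by rw [add_comm, zpow_one_add, mul_apply],
          hsg, ih, show -((j : ℤ) + 1) = -1 + -(j : ℤ) by ring, zpow_add, mul_apply, zpow_neg_one]
      | pred j ih =>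
        have h1 := hsg ((g ^ (-(j : ℤ) - 1)) x₀)
        rw [show g ((g ^ (-(j : ℤ) - 1)) x₀) = (g ^ (-(j : ℤ))) x₀ by
          rw [← mul_apply, ← zpow_one_add]; ring_nf, ih] at h1
        rw [show -(-(j : ℤ) - 1) = 1 + -(-(j : ℤ)) by ring, zpow_one_add, mul_apply, h1]
        simp
    have hss : s * s = 1 := by
      ext y
      rw [mul_apply, one_apply]
      by_cases hy : y ∈ g.support
      · obtain ⟨i, rfl⟩ := hg.exists_zpow_eq hx₀ (mem_support.1 hy)
        rw [hpow, hpow, neg_neg]
      · rw [hs0 y hy, hs0 y hy]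
    set t := g * s with htdef
    have htt : t * t = 1 := by
      ext y
      simp only [htdef, mul_apply, one_apply]
      rw [hsg, show g (g⁻¹ (s (s y))) = s (s y) from g.apply_symm_apply _, ← mul_apply s, hss, one_apply]
    have hts : g = t * s := by rw [htdef, mul_assoc, hss, mul_one]
    have hssub : s.support ⊆ g.support := fun y hy => by
      by_contra h
      exact (mem_support.1 hy) (hs0 y h)
    have htsub : t.support ⊆ g.support := fun y hy => by
      by_contra h
      apply mem_support.1 hy
      rw [htdef, mul_apply, hs0 y h, notMem_support.1 h]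
    -- at most two fixed points each
    have hfix : ∀ r : Perm α, (∀ y, r (g y) = g⁻¹ (r y)) → (g.support.filter fun y => r y = y).card ≤ 2 := by
      intro r hr
      by_contra h
      obtain ⟨a, ha, b, hb, c, hc, hab, hac, hbc⟩ := Finset.two_lt_card.1 (not_le.1 h)
      simp only [Finset.mem_filter] at ha hb hc
      have hrp : ∀ (i : ℤ) y, r ((g ^ i) y) = (g ^ (-i)) (r y) := by
        intro i y
        induction i using Int.induction_on with
        | zero => simp
        | succ j ih =>
          rw [show (g ^ ((j : ℤ) + 1)) y = g ((g ^ (j : ℤ)) y) by rw [add_comm, zpow_one_add, mul_apply],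
            hr, ih, show -((j : ℤ) + 1) = -1 + -(j : ℤ) by ring, zpow_add, mul_apply, zpow_neg_one]
        | pred j ih =>
          have h1 := hr ((g ^ (-(j : ℤ) - 1)) y)
          rw [show g ((g ^ (-(j : ℤ) - 1)) y) = (g ^ (-(j : ℤ))) y by
            rw [← mul_apply, ← zpow_one_add]; ring_nf, ih] at h1
          rw [show -(-(j : ℤ) - 1) = 1 + -(-(j : ℤ)) by ring, zpow_one_add, mul_apply, h1]
          simp
      obtain ⟨i, hi⟩ := hg.exists_zpow_eq (mem_support.1 ha.1) (mem_support.1 hb.1)
      obtain ⟨j, hj⟩ := hg.exists_zpow_eq (mem_support.1 ha.1) (mem_support.1 hc.1)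
      have key : ∀ (i : ℤ) z, (g ^ i) a = z → r z = z → (orderOf g : ℤ) ∣ 2 * i := by
        intro i z e1 e2
        have h1 : (g ^ (-i)) a = (g ^ i) a := by
          rw [e1, ← e2, ← e1, hrp, ha.2]
        have h2 : (g ^ (2 * i)) a = a := by
          calc (g ^ (2 * i)) a = (g ^ i) ((g ^ i) a) := by rw [← mul_apply, ← zpow_add, two_mul]
            _ = a := by rw [← h1, ← mul_apply, ← zpow_add, add_neg_cancel, zpow_zero, one_apply]
        exact orderOf_dvd_iff_zpow_eq_one.2 (Perm.ext fun y => by
          by_cases hy : y ∈ g.support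
          · obtain ⟨l, rfl⟩ := hg.exists_zpow_eq (mem_support.1 ha.1) (mem_support.1 hy)
            rw [one_apply, ← mul_apply, ← zpow_add, add_comm, zpow_add, mul_apply, h2]
          · exact zpow_apply_eq_self_of_apply_eq_self (notMem_support.1 hy) _)
      have d1 := key i b hi hb.2
      have d2 := key j c hj hc.2
      have nd : ∀ (i : ℤ) z, (g ^ i) a = z → z ≠ a → ¬ (orderOf g : ℤ) ∣ i := by
        intro i z e hz hd
        rw [orderOf_dvd_iff_zpow_eq_one.1 hd, one_apply] at e
        exact hz e.symm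
      have n1 := nd i b hi hab.symm
      have n2 := nd j c hj hac.symm
      have n3 : ¬ (orderOf g : ℤ) ∣ j - i := fun hd => by
        apply hbc
        rw [← hi, ← hj, show j = (j - i) + i by ring, zpow_add, orderOf_dvd_iff_zpow_eq_one.1 hd, one_mul]
      obtain ⟨x, hx⟩ := d1
      obtain ⟨y, hy⟩ := d2
      rcases Int.even_or_odd' x with ⟨x', rfl | rfl⟩
      · exact n1 ⟨x', by linarith⟩
      rcases Int.even_or_odd' y with ⟨y', rfl | rfl⟩
      · exact n2 ⟨y', by linarith⟩
      exact n3 ⟨y' - x', by linarith⟩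
    have hcs : ∀ r : Perm α, r.support ⊆ g.support →
        r.support.card + (g.support.filter fun y => r y = y).card = g.support.card := by
      intro r hr
      have h1 : r.support = g.support.filter fun y => ¬ r y = y := by
        ext y
        rw [Finset.mem_filter, mem_support]
        exact ⟨fun h => ⟨hr (mem_support.2 h), h⟩, fun h => h.2⟩
      rw [h1, add_comm, Finset.card_filter_add_card_filter_not]
    have htg : ∀ y, t (g y) = g⁻¹ (t y) := fun y => by
      simp only [htdef, mul_apply]
      rw [hsg, show g (g⁻¹ (s y)) = s y from g.apply_symm_apply _]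
      exact (g.symm_apply_apply _).symm
    have fs := hfix s hsg
    have ft := hfix t htg
    have f1 : 1 ≤ (g.support.filter fun y => s y = y).card :=
      Finset.card_pos.2 ⟨x₀, Finset.mem_filter.2 ⟨hx₀', hsx⟩⟩
    have c1 := hcs s hssub
    have c2 := hcs t htsub
    obtain ⟨⟨u, hu⟩, hsu⟩ := sign_of_inv hss
    obtain ⟨⟨v, hv⟩, hsv⟩ := sign_of_inv htt
    rw [hu, show (u + u) / 2 = u by omega] at hsu
    rw [hv, show (v + v) / 2 = v by omega] at hsv
    have hsgn : sign g = (-1) ^ (v + u) := by rw [hts, map_mul, hsu, hsv, pow_add]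
    have hg2 := hg.sign
    have hm : g.cycleType.card = 1 := by rw [hg.cycleType]; rfl
    rcases Nat.even_or_odd g.support.card with hev | hodd
    · obtain ⟨l, hl⟩ := hev
      rw [hl, show ((-1 : ℤˣ) ^ (l + l)) = 1 by rw [← two_mul, pow_mul]; simp] at hg2
      have hodd' : Odd (v + u) := by
        by_contra hne
        rw [Nat.not_odd_iff_even] at hne
        rw [hne.neg_one_pow, hg2] at hsgn
        exact absurd hsgn (by decide)
      obtain ⟨w, hw⟩ := hodd'
      refine ⟨s, t, ⟨hss, htt, hts, hssub, htsub, by omega⟩,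
        fun h => absurd (h.symm.trans hg2) (by decide), fun _ => by omega⟩
    · obtain ⟨l, hl⟩ := hodd
      have hg3 : sign g = 1 := by
        rw [hg2, hl, pow_succ, pow_mul]; simp
      exact ⟨s, t, ⟨hss, htt, hts, hssub, htsub, by omega⟩, fun _ => by omega,
        fun h => absurd (hg3.symm.trans h) (by decide)⟩
  · intro g h hd _ ⟨s₁, t₁, R₁, B₁⟩ ⟨s₂, t₂, R₂, B₂⟩
    have mk : ∀ s₂ t₂, Refl h s₂ t₂ → Refl (g * h) (s₁ * s₂) (t₁ * t₂) ∧
        (s₁ * s₂).support.card = s₁.support.card + s₂.support.card ∧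
        (t₁ * t₂).support.card = t₁.support.card + t₂.support.card := by
      intro s₂ t₂ R₂
      have hg := disjoint_iff_disjoint_support.1 hd
      have d1 : Disjoint s₁ s₂ := disjoint_iff_disjoint_support.2 (hg.mono R₁.ssub R₂.ssub)
      have d2 : Disjoint t₁ t₂ := disjoint_iff_disjoint_support.2 (hg.mono R₁.tsub R₂.tsub)
      have d3 : Disjoint s₁ t₂ := disjoint_iff_disjoint_support.2 (hg.mono R₁.ssub R₂.tsub)
      have e1 := d1.card_support_mul
      have e2 := d2.card_support_mul
      refine ⟨⟨?_, ?_, ?_, ?_, ?_, ?_⟩, e1, e2⟩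
      · rw [mul_assoc, ← mul_assoc s₂, ← d1.commute.eq, mul_assoc, R₂.sinv, mul_one, R₁.sinv]
      · rw [mul_assoc, ← mul_assoc t₂, ← d2.commute.eq, mul_assoc, R₂.tinv, mul_one, R₁.tinv]
      · rw [R₁.eq, R₂.eq, mul_assoc, ← mul_assoc s₁, d3.commute.eq]
        group
      · rw [d1.support_mul, hd.support_mul]; exact Finset.union_subset_union R₁.ssub R₂.ssub
      · rw [d2.support_mul, hd.support_mul]; exact Finset.union_subset_union R₁.tsub R₂.tsub
      · rw [e1, e2, hd.cycleType_mul, Multiset.card_add, hd.card_support_mul]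
        have := R₁.count
        have := R₂.count
        omega
    rcases Int.units_eq_one_or (sign g) with hg | hg <;>
      rcases Int.units_eq_one_or (sign h) with hh | hh
    · obtain ⟨R, e1, e2⟩ := mk s₂ t₂ R₂
      have := B₁.1 hg; have := B₂.1 hh
      exact ⟨_, _, R, fun _ => by omega, fun e => absurd e (by simp [hg, hh])⟩
    · obtain ⟨R, e1, e2⟩ := mk s₂ t₂ R₂
      have := B₁.1 hg; have := B₂.2 hh
      exact ⟨_, _, R, fun e => absurd e (by simp [hg, hh]), fun _ => by omega⟩
    · obtain ⟨R, e1, e2⟩ := mk s₂ t₂ R₂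
      have := B₁.2 hg; have := B₂.1 hh
      exact ⟨_, _, R, fun e => absurd e (by simp [hg, hh]), fun _ => by omega⟩
    · obtain ⟨R', -, hc⟩ := R₂.swapped
      obtain ⟨R, e1, e2⟩ := mk _ _ R'
      have := B₁.2 hg; have := B₂.2 hh
      exact ⟨_, _, R, fun _ => by omega, fun e => absurd e (by simp [hg, hh])⟩

end Cfsg.Agent.AltDouble
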