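import Cfsg.Agent.AltDouble.Table
import Cfsg.Agent.AltDouble.Reflect

/-!
# Every even permutation other than a three-cycle is good
-/

set_option autoImplicit false
set_option linter.unusedSectionVars false

namespace Cfsg.Agent.AltDouble

open Equiv Equiv.Perm

variable {β : Type*} [Fintype β] [DecidableEq β]

theorem moved_apply {s : Perm β} (hs : s * s = 1) {y : β} (hy : s y ≠ y) : s (s y) = y ∧ s (s y) ≠ s y := by
  have h : s (s y) = y := by rw [← mul_apply, hs, one_apply]
  exact ⟨h, by rw [h]; exact hy.symm⟩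

/-- Conjugation by an even element when a transposition centralises. -/
theorem exists_even_conj {b c : Perm β} {u v : β} (huv : u ≠ v) (hu : b u = v) (hv : b v = u)
    (hct : b.cycleType = c.cycleType) : ∃ a : Perm β, sign a = 1 ∧ a * b * a⁻¹ = c := by
  obtain ⟨σ, hσ⟩ := isConj_iff.1 (isConj_iff_cycleType_eq.2 hct)
  rcases Int.units_eq_one_or (sign σ) with h | h
  · exact ⟨σ, h, hσ⟩
  · refine ⟨σ * swap u v, by rw [map_mul, h, sign_swap huv]; decide, ?_⟩
    have hb : b * swap u v * b⁻¹ = swap u v := by
      rw [← swap_apply_apply, hu, hv, swap_comm]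
    calc σ * swap u v * b * (σ * swap u v)⁻¹ = σ * (swap u v * b) * (swap u v)⁻¹ * σ⁻¹ := by group
      _ = σ * (b * swap u v) * (swap u v)⁻¹ * σ⁻¹ := by
          rw [show swap u v * b = b * swap u v from (eq_mul_inv_iff_mul_eq.1 hb.symm)]
      _ = c := by rw [← hσ]; group

theorem good_of_even {g s t : Perm β} (R : Refl g s t) (hb : s.support.card = t.support.card)
    (hs : sign s = 1) (h4 : 4 ≤ s.support.card) : Good g := by
  obtain ⟨u, hu⟩ := Finset.card_pos.1 (by omega : 0 < s.support.card)
  have hu' : s u ≠ u := mem_support.1 hu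
  obtain ⟨w, hw⟩ : ∃ w, w ∈ s.support \ {u, s u} := by
    refine Finset.card_pos.1 ?_
    have := Finset.le_card_sdiff ({u, s u} : Finset β) s.support
    have : ({u, s u} : Finset β).card ≤ 2 := Finset.card_le_two
    omega
  simp only [Finset.mem_sdiff, Finset.mem_insert, Finset.mem_singleton, not_or] at hw
  obtain ⟨hw0, hwu, hwsu⟩ := hw
  have hw' : s w ≠ w := mem_support.1 hw0
  obtain ⟨a, ha, hab⟩ := exists_even_conj hu'.symm rfl (moved_apply R.sinv hu').1
    (cycleType_inv_eq R.sinv R.tinv hb)
  refine ⟨a, s, ha, hs, ?_, u, s u, w, s w, hu'.symm, Ne.symm hwu, ?_, Ne.symm hwsu, ?_, hw'.symm,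
    rfl, (moved_apply R.sinv hu').1, rfl, (moved_apply R.sinv hw').1⟩
  · rw [hab, inv_eq_of_mul_eq_one_right R.sinv]; exact R.eq.symm
  · intro e
    apply hwsu
    have := congrArg s e
    rw [(moved_apply R.sinv hw').1] at this
    exact this.symm
  · intro e
    exact hwu (s.injective e).symm

/-- The four-cycle met in the odd case. -/
theorem cycleType_mul_swap {s : Perm β} (hs : s * s = 1) {p q : β} (hp : s p ≠ p) (hq : s q ≠ q)
    (hpq : p ≠ q) (hsq : q ≠ s p) :
    ∃ r : Perm β, r * r = 1 ∧ r.support.card + 4 = s.support.card ∧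
      (s * swap p q).cycleType = r.cycleType + {4} := by
  set P := s p with hP
  set Q := s q with hQ
  have sP : s P = p := (moved_apply hs hp).1
  have sQ : s Q = q := (moved_apply hs hq).1
  have hPQ : P ≠ Q := fun e => hpq (s.injective e)
  have hpQ : p ≠ Q := fun e => hsq (by rw [hP, e, sQ])
  set d := swap p P * swap q Q with hd
  have dj : Disjoint (swap p P) (swap q Q) := by
    intro y
    by_cases h1 : y = p
    · exact Or.inr (h1 ▸ swap_apply_of_ne_of_ne hpq hpQ)
    by_cases h2 : y = P
    · exact Or.inr (h2 ▸ swap_apply_of_ne_of_ne (fun e => hsq e.symm) hPQ)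
    exact Or.inl (swap_apply_of_ne_of_ne h1 h2)
  have hdd : d * d = 1 := by
    rw [hd, mul_assoc, ← mul_assoc (swap q Q), ← dj.commute.eq, mul_assoc, swap_mul_self, mul_one,
      swap_mul_self]
  have hsd : ∀ y ∈ ({p, P, q, Q} : Finset β), s y = d y := by
    intro y hy
    simp only [Finset.mem_insert, Finset.mem_singleton] at hy
    rcases hy with rfl | rfl | rfl | rfl
    · rw [hd, mul_apply, swap_apply_of_ne_of_ne hpq hpQ, swap_apply_left]
    · rw [hd, mul_apply, swap_apply_of_ne_of_ne (fun e => hsq e.symm) hPQ, swap_apply_right, sP]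
    · rw [hd, mul_apply, swap_apply_left, swap_apply_of_ne_of_ne (Ne.symm hpQ) (Ne.symm hPQ)]
    · rw [hd, mul_apply, swap_apply_right, swap_apply_of_ne_of_ne hpq.symm hsq, sQ]
  have hd0 : ∀ y, y ∉ ({p, P, q, Q} : Finset β) → d y = y := by
    intro y hy
    simp only [Finset.mem_insert, Finset.mem_singleton, not_or] at hy
    rw [hd, mul_apply, swap_apply_of_ne_of_ne hy.2.2.1 hy.2.2.2, swap_apply_of_ne_of_ne hy.1 hy.2.1]
  set r := s * d with hr
  have hds : ∀ y, s y ∈ ({p, P, q, Q} : Finset β) → y ∈ ({p, P, q, Q} : Finset β) := by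
    intro y hy
    simp only [Finset.mem_insert, Finset.mem_singleton] at hy ⊢
    rcases hy with h | h | h | h
    · exact Or.inr (Or.inl (s.injective (h.trans sP.symm)))
    · exact Or.inl (s.injective h)
    · exact Or.inr (Or.inr (Or.inr (s.injective (h.trans sQ.symm))))
    · exact Or.inr (Or.inr (Or.inl (s.injective h)))
  have hr0 : ∀ y ∈ ({p, P, q, Q} : Finset β), r y = y := by
    intro y hy
    rw [hr, mul_apply, ← hsd y hy, ← mul_apply, hs, one_apply]
  have hr1 : ∀ y, y ∉ ({p, P, q, Q} : Finset β) → r y = s y := fun y hy => by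
    rw [hr, mul_apply, hd0 y hy]
  have hrr : r * r = 1 := by
    ext y
    rw [mul_apply, one_apply]
    by_cases hy : y ∈ ({p, P, q, Q} : Finset β)
    · rw [hr0 y hy, hr0 y hy]
    · rw [hr1 y hy, hr1 _ (fun h => hy (hds y h)), ← mul_apply, hs, one_apply]
  have hcard4 : ({p, P, q, Q} : Finset β).card = 4 := by
    simp [hpq, hpQ, hPQ, hp.symm, hq.symm, Ne.symm hsq]
  have hrs : r.support = s.support \ {p, P, q, Q} := by
    ext y
    rw [Finset.mem_sdiff, mem_support, mem_support]
    by_cases hy : y ∈ ({p, P, q, Q} : Finset β)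
    · simp [hr0 y hy, hy]
    · simp [hr1 y hy, hy]
  have hsub : ({p, P, q, Q} : Finset β) ⊆ s.support := by
    intro y hy
    simp only [Finset.mem_insert, Finset.mem_singleton] at hy
    rw [mem_support]
    rcases hy with rfl | rfl | rfl | rfl
    · exact hp
    · rw [sP]; exact Ne.symm hp
    · exact hq
    · rw [sQ]; exact Ne.symm hq
  set c := List.formPerm [p, Q, q, P] with hc
  have hnd : [p, Q, q, P].Nodup := by
    simp [hpq, hpQ, hp.symm, hq, Ne.symm hPQ, hsq]
  have hcs : c.support = [p, Q, q, P].toFinset := List.support_formPerm_of_nodup _ hnd (by simp)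
  have hcyc : c.cycleType = {4} := by
    rw [(List.isCycle_formPerm hnd (by simp)).cycleType, hcs, List.toFinset_card_of_nodup hnd]
    rfl
  have hcd : d * swap p q = c := by
    ext y
    rw [hd, hc]
    simp only [List.formPerm_cons_cons, List.formPerm_singleton, mul_apply, mul_one, swap_apply_def]
    grind
  have hdisj : Disjoint r c := by
    rw [disjoint_iff_disjoint_support, hrs, hcs, Finset.disjoint_left]
    intro y hy hy'
    apply (Finset.mem_sdiff.1 hy).2
    simp only [List.mem_toFinset, List.mem_cons, List.not_mem_nil, or_false] at hy'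
    simp only [Finset.mem_insert, Finset.mem_singleton]
    tauto
  refine ⟨r, hrr, ?_, ?_⟩
  · rw [hrs, Finset.card_sdiff_of_subset hsub, hcard4]
    have := Finset.card_le_card hsub
    omega
  · rw [show s * swap p q = r * c by rw [hr, ← hcd, mul_assoc, ← mul_assoc d, hdd, one_mul],
      hdisj.cycleType_mul, hcyc]

theorem good_of_odd {g s t : Perm β} (R : Refl g s t) (hb : s.support.card = t.support.card)
    (hs : sign s = -1) (h10 : 10 ≤ s.support.card) (hM : 4 ≤ (s.support ∩ t.support).card) : Good g := by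
  obtain ⟨p, hp⟩ := Finset.card_pos.1 (by omega : 0 < (s.support ∩ t.support).card)
  obtain ⟨q, hq⟩ : ∃ q, q ∈ (s.support ∩ t.support) \ {p, s p, t p} := by
    refine Finset.card_pos.1 ?_
    have := Finset.le_card_sdiff ({p, s p, t p} : Finset β) (s.support ∩ t.support)
    have : ({p, s p, t p} : Finset β).card ≤ 3 := Finset.card_le_three
    omega
  simp only [Finset.mem_sdiff, Finset.mem_inter, mem_support, Finset.mem_insert, Finset.mem_singleton,
    not_or] at hp hq
  obtain ⟨⟨hq1, hq2⟩, hqp, hqs, hqt⟩ := hq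
  obtain ⟨r, hr, hrc, hrt⟩ := cycleType_mul_swap R.sinv hp.1 hq1 (Ne.symm hqp) hqs
  obtain ⟨r', hr', hrc', hrt'⟩ := cycleType_mul_swap R.tinv hp.2 hq2 (Ne.symm hqp) hqt
  have hct : (s * swap p q).cycleType = (t * swap p q).cycleType := by
    rw [hrt, hrt', cycleType_inv_eq hr hr' (by omega)]
  set F : Finset β := {p, s p, q, s q}
  have hF : F.card ≤ 4 := Finset.card_le_four
  obtain ⟨u, hu⟩ : ∃ u, u ∈ s.support \ F := by
    refine Finset.card_pos.1 ?_
    have := Finset.le_card_sdiff F s.support
    omega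
  simp only [F, Finset.mem_sdiff, mem_support, Finset.mem_insert, Finset.mem_singleton, not_or] at hu
  obtain ⟨hu0, hu1, hu2, hu3, hu4⟩ := hu
  obtain ⟨w, hw⟩ : ∃ w, w ∈ s.support \ (F ∪ {u, s u}) := by
    refine Finset.card_pos.1 ?_
    have := Finset.le_card_sdiff (F ∪ {u, s u}) s.support
    have := Finset.card_union_le F ({u, s u} : Finset β)
    have : ({u, s u} : Finset β).card ≤ 2 := Finset.card_le_two
    omega
  simp only [F, Finset.mem_sdiff, mem_support, Finset.mem_union, Finset.mem_insert, Finset.mem_singleton,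
    not_or] at hw
  obtain ⟨hw0, ⟨hw1, hw2, hw3, hw4⟩, hwu, hwsu⟩ := hw
  have ev : ∀ z, z ≠ p → z ≠ s p → z ≠ q → z ≠ s q →
      (s * swap p q) z = s z ∧ (s * swap p q) (s z) = s (s z) := by
    intro z h1 h2 h3 h4
    have i1 : s z ≠ p := fun e => h2 (by rw [← e, ← mul_apply, R.sinv, one_apply])
    have i3 : s z ≠ q := fun e => h4 (by rw [← e, ← mul_apply, R.sinv, one_apply])
    constructor
    · rw [mul_apply, swap_apply_of_ne_of_ne h1 h3]
    · rw [mul_apply, swap_apply_of_ne_of_ne i1 i3]
  obtain ⟨eu1, eu2⟩ := ev u hu1 hu2 hu3 hu4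
  obtain ⟨ew1, ew2⟩ := ev w hw1 hw2 hw3 hw4
  rw [(moved_apply R.sinv hu0).1] at eu2
  rw [(moved_apply R.sinv hw0).1] at ew2
  obtain ⟨a, ha, hab⟩ := exists_even_conj (Ne.symm hu0) eu1 eu2 hct
  refine ⟨a, s * swap p q, ha, by rw [map_mul, hs, sign_swap (Ne.symm hqp)]; decide, ?_,
    u, s u, w, s w, Ne.symm hu0, Ne.symm hwu, ?_, Ne.symm hwsu, ?_, Ne.symm hw0, eu1, eu2, ew1, ew2⟩
  · rw [hab, mul_inv_rev, swap_inv, inv_eq_of_mul_eq_one_right R.sinv, mul_assoc, ← mul_assoc (swap p q),
      swap_mul_self, one_mul]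
    exact R.eq.symm
  · intro e
    apply hwsu
    rw [e, (moved_apply R.sinv hw0).1]
  · intro e
    exact hwu (s.injective e).symm

/-- A permutation without fixed point having at most three cycles is good unless it is a three-cycle. -/
theorem good_of_few {g : Perm β} (hg : sign g = 1) (hg1 : g ≠ 1)
    (h3 : g.cycleType ≠ {3}) (hm : g.cycleType.card ≤ 3) : Good g := by
  obtain ⟨s, t, R, B⟩ := exists_reflect g
  have hb := B.1 hg
  have hc := R.count
  have hsum := sum_cycleType g
  obtain ⟨⟨k, hk⟩, hsk⟩ := sign_of_inv R.sinv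
  rw [hk, show (k + k) / 2 = k by omega] at hsk
  have hm0 : 0 < g.cycleType.card := by
    rw [Multiset.card_pos]; exact fun h => hg1 (cycleType_eq_zero.1 h)
  have hk0 : k ≠ 0 := by
    intro h0
    have : s = 1 := support_eq_empty_iff.1 (Finset.card_eq_zero.1 (by omega))
    have : t = 1 := support_eq_empty_iff.1 (Finset.card_eq_zero.1 (by omega))
    exact hg1 (by rw [R.eq]; simp [*])
  rcases Nat.even_or_odd k with he | ho
  · refine good_of_even R hb (by rw [hsk, he.neg_one_pow]) ?_
    obtain ⟨l, hl⟩ := he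
    omega
  rw [ho.neg_one_pow] at hsk
  by_cases h5 : 5 ≤ k
  · refine good_of_odd R hb hsk (by omega) ?_
    have h1 := Finset.card_union_add_card_inter s.support t.support
    have h2 : (s.support ∪ t.support).card ≤ g.support.card :=
      Finset.card_le_card (Finset.union_subset R.ssub R.tsub)
    omega
  have hk3 : k = 1 ∨ k = 3 := by obtain ⟨l, hl⟩ := ho; omega
  have hsg : (Multiset.map (fun n => -(-1 : ℤˣ) ^ n) g.cycleType).prod = 1 := by
    rw [← sign_of_cycleType', hg]
  have h2 : ∀ x ∈ g.cycleType, 2 ≤ x := fun x hx => two_le_of_mem_cycleType hx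
  -- the possible cycle types
  have key : g.cycleType = {2, 2} ∨ g.cycleType = {7} ∨ g.cycleType = {6, 2} ∨ g.cycleType = {5, 3} ∨
      g.cycleType = {4, 4} ∨ g.cycleType = {3, 3, 3} ∨ g.cycleType = {4, 3, 2} ∨ g.cycleType = {5, 2, 2} := by
    rcases (show g.cycleType.card = 1 ∨ g.cycleType.card = 2 ∨ g.cycleType.card = 3 by omega) with h | h | h
    · obtain ⟨a, ha⟩ := Multiset.card_eq_one.1 h
      rw [ha] at hsum h3
      simp only [Multiset.sum_singleton] at hsum
      rcases hk3 with rfl | rfl
      · exact absurd (by rw [show a = 3 by omega]) h3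
      · right; left; rw [ha, show a = 7 by omega]
    · obtain ⟨a, b, ha⟩ := Multiset.card_eq_two.1 h
      rw [ha] at hsum hsg h2
      simp only [Multiset.insert_eq_cons, Multiset.map_cons, Multiset.map_singleton, Multiset.prod_cons,
        Multiset.prod_singleton, Multiset.sum_cons, Multiset.sum_singleton] at hsum hsg
      have a2 : 2 ≤ a := h2 a (by simp)
      have b2 : 2 ≤ b := h2 b (by simp)
      have a6 : a ≤ 6 := by omega
      have b6 : b ≤ 6 := by omega
      interval_cases a <;> interval_cases b <;> first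
        | omega
        | exact absurd hsg (by decide)
        | (rw [ha]; decide)
    · obtain ⟨a, b, c, ha⟩ := Multiset.card_eq_three.1 h
      rw [ha] at hsum hsg h2
      simp only [Multiset.insert_eq_cons, Multiset.map_cons, Multiset.map_singleton, Multiset.prod_cons,
        Multiset.prod_singleton, Multiset.sum_cons, Multiset.sum_singleton] at hsum hsg
      have a2 : 2 ≤ a := h2 a (by simp)
      have b2 : 2 ≤ b := h2 b (by simp)
      have c2 : 2 ≤ c := h2 c (by simp)
      have a6 : a ≤ 5 := by omega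
      have b6 : b ≤ 5 := by omega
      have c6 : c ≤ 5 := by omega
      interval_cases a <;> interval_cases b <;> interval_cases c <;> first
        | omega
        | exact absurd hsg (by decide)
        | (rw [ha]; decide)
  rcases key with h | h | h | h | h | h | h | h
  · exact (goodOn_of_model full22 good22 (type22.trans h.symm)).good
  · exact (goodOn_of_model full7 good7 (type7.trans h.symm)).good
  · exact (goodOn_of_model full62 good62 (type62.trans h.symm)).good
  · exact (goodOn_of_model full53 good53 (type53.trans h.symm)).good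
  · exact (goodOn_of_model full44 good44 (type44.trans h.symm)).good
  · exact (goodOn_of_model full333 good333 (type333.trans h.symm)).good
  · exact (goodOn_of_model full432 good432 (type432.trans h.symm)).good
  · exact (goodOn_of_model full522 good522 (type522.trans h.symm)).good

end Cfsg.Agent.AltDouble
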