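import Cfsg.Agent.AltDouble.Full

/-!
# All even permutations of at least five points are good
-/

set_option autoImplicit false

namespace Cfsg.Agent.AltDouble

open Equiv Equiv.Perm

variable {α : Type*} [Fintype α] [DecidableEq α]

theorem GoodOn.mul {g₁ g₂ : Perm α} (h : g₁.Disjoint g₂) (h₁ : GoodOn g₁) (h₂ : GoodOn g₂) :
    GoodOn (g₁ * g₂) := by
  obtain ⟨a, b, ha, hb, e, ⟨u, v, w, x, n1, n2, n3, n4, n5, n6, e1, e2, e3, e4⟩, sa, sb⟩ := h₁
  obtain ⟨a', b', ha', hb', e', -, sa', sb'⟩ := h₂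
  have hd := disjoint_iff_disjoint_support.1 h
  have dis : ∀ p q : Perm α, p.support ⊆ g₁.support → q.support ⊆ g₂.support → Disjoint p q :=
    fun p q hp hq => disjoint_iff_disjoint_support.2 (hd.mono hp hq)
  have fix : ∀ y, b y ≠ y → b' y = y := fun y hy =>
    ((dis b b' sb sb') y).resolve_left hy
  have c1 : a' * b = b * a' := ((dis b a' sb sa').commute).symm.eq
  have c2 : a⁻¹ * (a' * b' * a'⁻¹) = (a' * b' * a'⁻¹) * a⁻¹ :=
    (((dis a a' sa sa').commute.mul_right (dis a b' sa sb').commute).mul_right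
      (dis a a' sa sa').commute.inv_right).inv_left.eq
  have c3 : b⁻¹ * (a' * b' * a'⁻¹ * b'⁻¹) = (a' * b' * a'⁻¹ * b'⁻¹) * b⁻¹ :=
    ((((dis b a' sb sa').commute.mul_right (dis b b' sb sb').commute).mul_right
      (dis b a' sb sa').commute.inv_right).mul_right (dis b b' sb sb').commute.inv_right).inv_left.eq
  refine ⟨a * a', b * b', by simp [ha, ha'], by simp [hb, hb'], ?_, ⟨u, v, w, x, n1, n2, n3, n4, n5, n6,
    ?_, ?_, ?_, ?_⟩, ?_, ?_⟩
  · calc a * a' * (b * b') * (a * a')⁻¹ * (b * b')⁻¹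
        = a * (a' * b) * b' * a'⁻¹ * a⁻¹ * b'⁻¹ * b⁻¹ := by group
      _ = a * b * ((a' * b' * a'⁻¹) * a⁻¹) * b'⁻¹ * b⁻¹ := by rw [c1]; group
      _ = a * b * a⁻¹ * ((a' * b' * a'⁻¹ * b'⁻¹) * b⁻¹) := by rw [← c2]; group
      _ = g₁ * g₂ := by rw [← c3, ← e, ← e']; group
  · rw [mul_apply, fix u (by rw [e1]; exact n1.symm), e1]
  · rw [mul_apply, fix v (by rw [e2]; exact n1), e2]
  · rw [mul_apply, fix w (by rw [e3]; exact n6.symm), e3]
  · rw [mul_apply, fix x (by rw [e4]; exact n6), e4]
  · rw [h.support_mul]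
    exact (support_mul_le a a').trans (Finset.union_subset_union sa sa')
  · rw [h.support_mul]
    exact (support_mul_le b b').trans (Finset.union_subset_union sb sb')

theorem goodOn_of_few {g : Perm α} (hg : sign g = 1) (hg1 : g ≠ 1) (h3 : g.cycleType ≠ {3})
    (hm : g.cycleType.card ≤ 3) : GoodOn g := by
  classical
  have hinv : ∀ y, g y ∈ g.support ↔ y ∈ g.support := fun y => apply_mem_support
  set g' : Perm {y // y ∈ g.support} := g.subtypePerm hinv
  have e : ofSubtype g' = g := ofSubtype_subtypePerm _ (fun y hy => mem_support.2 hy)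
  have hct : g'.cycleType = g.cycleType := by rw [← cycleType_ofSubtype (g := g'), e]
  have hs : sign g' = 1 := by rw [← sign_ofSubtype g', e, hg]
  have h1 : g' ≠ 1 := fun h => hg1 (by rw [← e, h, map_one])
  obtain ⟨a, b, ha, hb, eab, u, v, w, x, n1, n2, n3, n4, n5, n6, e1, e2, e3, e4⟩ :=
    good_of_few hs h1 (hct ▸ h3) (hct ▸ hm)
  have hsub : ∀ τ : Perm {y // y ∈ g.support}, (ofSubtype τ).support ⊆ g.support := by
    intro τ y hy
    by_contra hc
    exact mem_support.1 hy (ofSubtype_apply_of_not_mem τ hc)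
  refine ⟨ofSubtype a, ofSubtype b, by rw [sign_ofSubtype, ha], by rw [sign_ofSubtype, hb],
    by rw [← map_inv, ← map_inv, ← map_mul, ← map_mul, ← map_mul, eab, e],
    ⟨u, v, w, x, fun h => n1 (Subtype.ext h), fun h => n2 (Subtype.ext h), fun h => n3 (Subtype.ext h),
      fun h => n4 (Subtype.ext h), fun h => n5 (Subtype.ext h), fun h => n6 (Subtype.ext h),
      by rw [ofSubtype_apply_coe, e1], by rw [ofSubtype_apply_coe, e2],
      by rw [ofSubtype_apply_coe, e3], by rw [ofSubtype_apply_coe, e4]⟩, hsub a, hsub b⟩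

/-- Taking one cycle out. -/
theorem exists_peel {g : Perm α} {k : ℕ} (hk : k ∈ g.cycleType) :
    ∃ c r : Perm α, g = r * c ∧ r.Disjoint c ∧ c.cycleType = {k} ∧ g.cycleType = k ::ₘ r.cycleType ∧
      sign c = -(-1) ^ k := by
  rw [cycleType_def, Multiset.mem_map] at hk
  obtain ⟨c, hc, rfl⟩ := hk
  have hc' := mem_cycleFactorsFinset_iff.1 hc
  have hd : (g * c⁻¹).Disjoint c := disjoint_mul_inv_of_mem_cycleFactorsFinset hc
  refine ⟨c, g * c⁻¹, by group, hd, hc'.1.cycleType, ?_, ?_⟩
  · conv_lhs => rw [show g = g * c⁻¹ * c by group]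
    rw [hd.cycleType_mul, hc'.1.cycleType, add_comm, Multiset.singleton_add]
    rfl
  · exact hc'.1.sign

theorem goodOn_of_even_perm {g : Perm α} (hg : sign g = 1) (hg1 : g ≠ 1) (h3 : g.cycleType ≠ {3}) :
    GoodOn g := by
  obtain ⟨N, hN⟩ : ∃ N, g.cycleType.card ≤ N := ⟨_, le_rfl⟩
  induction N generalizing g with
  | zero =>
    exact absurd (cycleType_eq_zero.1 (Multiset.card_eq_zero.1 (by omega))) hg1
  | succ N ih =>
    by_cases hm : g.cycleType.card ≤ 3
    · exact goodOn_of_few hg hg1 h3 hm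
    by_cases hodd : ∃ L ∈ g.cycleType, Odd L ∧ L ≠ 3
    · obtain ⟨L, hL, hLo, hL3⟩ := hodd
      obtain ⟨c, r, e, hd, hc, hgr, hsc⟩ := exists_peel hL
      rw [hLo.neg_one_pow, neg_neg] at hsc
      have hsr : sign r = 1 := by
        rw [e, map_mul, hsc, mul_one] at hg
        exact hg
      have hrc : r.cycleType.card + 1 = g.cycleType.card := by rw [hgr, Multiset.card_cons]
      rw [e]
      refine GoodOn.mul hd ?_ ?_
      · refine ih hsr ?_ ?_ (by omega)
        · intro h; rw [h, cycleType_one] at hrc; simp at hrc; omega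
        · intro h; rw [h] at hrc; simp at hrc; omega
      · refine goodOn_of_few hsc ?_ ?_ (by rw [hc]; simp)
        · intro h; rw [h, cycleType_one] at hc; simp at hc
        · rw [hc]; simpa using hL3
    -- every cycle has even length or length three
    have key : ∃ x y : ℕ, ∃ m, g.cycleType = x ::ₘ y ::ₘ m ∧
        (-(-1 : ℤˣ) ^ x) * (-(-1 : ℤˣ) ^ y) = 1 := by
      push Not at hodd
      by_cases he : ∃ x ∈ g.cycleType, Even x
      · obtain ⟨x, hx, hxe⟩ := he
        obtain ⟨m, hm'⟩ := Multiset.exists_cons_of_mem hx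
        have : ∃ y ∈ m, Even y := by
          by_contra hc
          push Not at hc
          have hall : ∀ y ∈ m, -(-1 : ℤˣ) ^ y = 1 := fun y hy => by
            rw [(Nat.not_even_iff_odd.1 (hc y hy)).neg_one_pow, neg_neg]
          rw [sign_of_cycleType', hm', Multiset.map_cons, Multiset.prod_cons,
            hxe.neg_one_pow, Multiset.prod_eq_one (by simpa using hall)] at hg
          exact absurd hg (by decide)
        obtain ⟨y, hy, hye⟩ := this
        obtain ⟨m', hm''⟩ := Multiset.exists_cons_of_mem hy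
        exact ⟨x, y, m', by rw [hm', hm''], by rw [hxe.neg_one_pow, hye.neg_one_pow]; decide⟩
      · push Not at he
        have h33 : ∀ x ∈ g.cycleType, x = 3 := fun x hx =>
          hodd x hx (Nat.not_even_iff_odd.1 (he x hx))
        have hrep := Multiset.eq_replicate_card.2 h33
        obtain ⟨j, hj⟩ : ∃ j, g.cycleType.card = j + 2 := ⟨g.cycleType.card - 2, by omega⟩
        refine ⟨3, 3, Multiset.replicate j 3, ?_, by decide⟩
        rw [hrep, hj, Multiset.replicate_succ, Multiset.replicate_succ]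
    obtain ⟨x, y, m, hxy, hsxy⟩ := key
    obtain ⟨c, r, e, hd, hc, hgr, hsc⟩ := exists_peel (g := g) (k := x) (by rw [hxy]; simp)
    have hr : r.cycleType = y ::ₘ m := (Multiset.cons_inj_right _).1 (hgr.symm.trans hxy)
    obtain ⟨c', r', e', hd', hc', hgr', hsc'⟩ := exists_peel (g := r) (k := y) (by rw [hr]; simp)
    rw [e'] at e hd
    have hsupp := hd'.support_mul
    have hd2 := disjoint_iff_disjoint_support.1 hd
    rw [hsupp, Finset.disjoint_union_left] at hd2
    have hd3 : r'.Disjoint (c' * c) := by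
      rw [disjoint_iff_disjoint_support,
        (disjoint_iff_disjoint_support.2 hd2.2 : c'.Disjoint c).support_mul, Finset.disjoint_union_right]
      exact ⟨disjoint_iff_disjoint_support.1 hd', hd2.1⟩
    have hcc : (c' * c).cycleType = {y} + {x} := by
      rw [(disjoint_iff_disjoint_support.2 hd2.2 : c'.Disjoint c).cycleType_mul, hc, hc']
    have hs2 : sign (c' * c) = 1 := by rw [map_mul, hsc, hsc', mul_comm]; exact hsxy
    have hsr : sign r' = 1 := by
      rw [e, mul_assoc, map_mul, hs2, mul_one] at hg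
      exact hg
    have hcard : r'.cycleType.card + 2 = g.cycleType.card := by
      rw [hgr, hgr', Multiset.card_cons, Multiset.card_cons]
    rw [e, mul_assoc]
    refine GoodOn.mul hd3 ?_ ?_
    · refine ih hsr ?_ ?_ (by omega)
      · intro h; rw [h, cycleType_one] at hcard; simp at hcard; omega
      · intro h; rw [h] at hcard; simp at hcard; omega
    · have h2 : (c' * c).cycleType.card = 2 := by rw [hcc]; simp
      refine goodOn_of_few hs2 ?_ ?_ (by omega)
      · intro h; rw [h, cycleType_one] at h2; simp at h2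
      · intro h; rw [h] at h2; simp at h2

theorem good_of_even_perm {n : ℕ} (hn : 5 ≤ n) {g : Perm (Fin n)} (hg : sign g = 1) (hg1 : g ≠ 1) :
    Good g := by
  by_cases h3 : g.cycleType = {3}
  · have hf : Function.Injective (Fin.castLE hn) := Fin.castLE_injective hn
    let E : Fin 5 ≃ {y : Fin n // y ∈ Set.range (Fin.castLE hn)} := Equiv.ofInjective _ hf
    let φ : Perm (Fin 5) →* Perm (Fin n) := extendDomainHom E
    have hφ : ∀ (σ : Perm (Fin 5)) i, φ σ (Fin.castLE hn i) = Fin.castLE hn (σ i) := fun σ i =>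
      extendDomain_apply_image σ E i
    have hs : ∀ σ : Perm (Fin 5), sign (φ σ) = sign σ := fun σ => sign_extendDomain σ E
    have hct : (φ model3).cycleType = g.cycleType := by
      rw [h3, ← type3]; exact cycleType_extendDomain E
    obtain ⟨σ, hσ⟩ := isConj_iff.1 (isConj_iff_cycleType_eq.2 hct)
    obtain ⟨a, b, ha, hb, eab, u, v, w, x, n1, n2, n3, n4, n5, n6, e1, e2, e3, e4⟩ := good3
    rw [← hσ]
    refine Good.conj ⟨φ a, φ b, (hs a).trans ha, (hs b).trans hb,
      by rw [← map_inv, ← map_inv, ← map_mul, ← map_mul, ← map_mul, eab],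
      Fin.castLE hn u, Fin.castLE hn v, Fin.castLE hn w, Fin.castLE hn x,
      hf.ne n1, hf.ne n2, hf.ne n3, hf.ne n4, hf.ne n5, hf.ne n6,
      by rw [hφ, e1], by rw [hφ, e2], by rw [hφ, e3], by rw [hφ, e4]⟩ σ
  · exact (goodOn_of_even_perm hg hg1 h3).good

end Cfsg.Agent.AltDouble
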