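import Cfsg.Agent.AltDouble.Induct
import Cfsg.Agent.AltMult.Main

/-!
# Lifting commutator expressions to the double cover
-/

set_option autoImplicit false

namespace Cfsg.Agent.AltDouble

open Equiv Equiv.Perm
open Cfsg.Agent.AltMult

section dt
variable {α : Type*} [Fintype α] [DecidableEq α]

theorem dt_apply {u v w x : α} (huw : u ≠ w) (hux : u ≠ x) (hvw : v ≠ w) (hvx : v ≠ x) :
    (swap u v * swap w x) u = v ∧ (swap u v * swap w x) v = u ∧ (swap u v * swap w x) w = x ∧
      (swap u v * swap w x) x = w := by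
  refine ⟨?_, ?_, ?_, ?_⟩
  · rw [mul_apply, swap_apply_of_ne_of_ne huw hux, swap_apply_left]
  · rw [mul_apply, swap_apply_of_ne_of_ne hvw hvx, swap_apply_right]
  · rw [mul_apply, swap_apply_left, swap_apply_of_ne_of_ne hux.symm hvx.symm]
  · rw [mul_apply, swap_apply_right, swap_apply_of_ne_of_ne huw.symm hvw.symm]

theorem dt_cycleType {u v w x : α} (huv : u ≠ v) (huw : u ≠ w) (hux : u ≠ x) (hvw : v ≠ w)
    (hvx : v ≠ x) (hwx : w ≠ x) : (swap u v * swap w x).cycleType = {2, 2} := by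
  have d : (swap u v).Disjoint (swap w x) := by
    rw [disjoint_iff_disjoint_support, support_swap huv, support_swap hwx]
    simp [huw, hux, hvw, hvx, huw.symm, hux.symm, hvw.symm, hvx.symm]
  rw [d.cycleType_mul, (IsSwap.isCycle ⟨u, v, huv, rfl⟩).cycleType,
    (IsSwap.isCycle ⟨w, x, hwx, rfl⟩).cycleType, card_support_swap huv, card_support_swap hwx]
  rfl

theorem cyc_mul_cyc_eq {u v p q : α} (huv : u ≠ v) (hpu : p ≠ u) (hpv : p ≠ v) (hqu : q ≠ u)
    (hqv : q ≠ v) (hpq : p ≠ q) : cyc u v p * cyc u v q = swap u p * swap v q := by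
  ext t
  simp only [cyc, mul_apply, swap_apply_def]
  grind

/-- The double transposition as an element of the alternating group. -/
def dtA (u v w x : α) (huv : u ≠ v) (hwx : w ≠ x) : alternatingGroup α :=
  ⟨swap u v * swap w x, mem_alternatingGroup.2 (by rw [map_mul, sign_swap huv, sign_swap hwx]; rfl)⟩

end dt

variable {H : Type*} [Group H] [Finite H] {n : ℕ}

/-- No involution lifts a double transposition. -/
theorem sq_ne_one (π : H →* alternatingGroup (Fin n)) (hsurj : Function.Surjective π)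
    (hc : π.ker ≤ Subgroup.center H) (hd : π.ker ≤ commutator H) (hk : Nat.card π.ker = 2) {X : H}
    {u v w x : Fin n} (huv : u ≠ v) (huw : u ≠ w) (hux : u ≠ x) (hvw : v ≠ w) (hvx : v ≠ x)
    (hwx : w ≠ x) (hX : (π X : Perm (Fin n)) = swap u v * swap w x) : X * X ≠ 1 := by
  classical
  intro hx2
  obtain ⟨m, rfl⟩ : ∃ m, n = m + 2 := ⟨n - 2, by
    have := v.isLt
    have := u.isLt
    have : u.val ≠ v.val := fun e => huv (Fin.ext e)
    omega⟩
  have hsq : ∀ c ∈ π.ker, c * c = 1 := by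
    intro c hc'
    have := pow_card_eq_one' (x := (⟨c, hc'⟩ : π.ker))
    rw [hk, pow_two] at this
    exact congrArg Subtype.val this
  have hlift : ∀ i, ∃ y : H, π y = gen m i ∧ (i < m → y ^ 3 = 1) := by
    intro i
    obtain ⟨g, hg⟩ := hsurj (gen m i)
    by_cases hi : i < m
    · have hc' : g ^ 3 ∈ π.ker := by
        rw [MonoidHom.mem_ker, map_pow, hg]
        exact Subtype.ext (by rw [SubgroupClass.coe_pow, gen_val hi, OneMemClass.coe_one]
                              exact cyc_pow_three zero_ne_one' (pt_ne_zero hi).symm (pt_ne_one hi).symm)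
      refine ⟨g * g ^ 3, by rw [map_mul, hg, MonoidHom.mem_ker.1 hc', mul_one], fun _ => ?_⟩
      have h6 : g ^ 3 * g ^ 3 = 1 := hsq _ hc'
      calc (g * g ^ 3) ^ 3 = (g ^ 3 * g ^ 3) * (g ^ 3 * g ^ 3) := by group
        _ = 1 := by rw [h6, mul_one]
    · exact ⟨g, hg, fun h => absurd h hi⟩
  choose y hy hy3 using hlift
  have hprod : ∀ i j, i < m → j < m → i ≠ j → (y i * y j) ^ 2 = 1 := by
    intro i j hi hj hij
    have e := cyc_mul_cyc_eq (α := Fin (m + 2)) zero_ne_one' (pt_ne_zero hi) (pt_ne_one hi) (pt_ne_zero hj)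
      (pt_ne_one hj) (fun e => hij (pt_inj hi hj e))
    obtain ⟨h1, h2, -, -⟩ := dt_apply huw hux hvw hvx
    obtain ⟨σ, hσs, hσ⟩ := exists_even_conj huv h1 h2 (c := swap 0 (pt m i) * swap 1 (pt m j))
      ((dt_cycleType huv huw hux hvw hvx hwx).trans (dt_cycleType (pt_ne_zero hi).symm zero_ne_one'
        (pt_ne_zero hj).symm (pt_ne_one hi) (fun e => hij (pt_inj hi hj e)) (pt_ne_one hj).symm).symm)
    obtain ⟨g, hg⟩ := hsurj ⟨σ, mem_alternatingGroup.2 hσs⟩
    have hgσ : (π g : Perm (Fin (m + 2))) = σ := congrArg Subtype.val hg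
    have hk' : (g * X * g⁻¹)⁻¹ * (y i * y j) ∈ π.ker := by
      rw [MonoidHom.mem_ker, map_mul, map_inv, inv_mul_eq_one, map_mul, map_mul, map_mul, map_inv, hy, hy]
      apply Subtype.ext
      simp only [Subgroup.coe_mul, Subgroup.coe_inv, hgσ, gen_val hi, gen_val hj, hX, hσ, e]
    set c := (g * X * g⁻¹)⁻¹ * (y i * y j)
    have he : y i * y j = g * X * g⁻¹ * c := by simp only [c]; group
    have hcomm : Commute (g * X * g⁻¹) c := Subgroup.mem_center_iff.1 (hc hk') _
    rw [he, hcomm.mul_pow, conj_pow, pow_two X, hx2, pow_two, hsq c hk']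
    simp
  set L := Subgroup.closure (y '' Set.Iio m)
  have hmap : L.map π = ⊤ :=
    gen_closure _ fun i hi => ⟨y i, Subgroup.subset_closure ⟨i, hi, rfl⟩, hy i⟩
  have hL := two_mul_card_closure_le m y hy3 hprod
  have htop : L = ⊤ := closure_eq_top π hc hd L hmap
  change 2 * Nat.card L ≤ _ at hL
  rw [htop, Subgroup.card_top] at hL
  have hA : 2 * Nat.card (alternatingGroup (Fin (m + 2))) = (m + 2).factorial := by
    rw [two_mul_nat_card_alternatingGroup, Nat.card_perm, Nat.card_fin]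
  have h1 : Nat.card H = Nat.card (alternatingGroup (Fin (m + 2))) * 2 := by
    rw [Subgroup.card_eq_card_quotient_mul_card_subgroup π.ker,
      Nat.card_congr (QuotientGroup.quotientKerEquivOfSurjective π hsurj).toEquiv, hk]
  have : 0 < Nat.card (alternatingGroup (Fin (m + 2))) := Nat.card_pos
  omega

omit [Finite H] in
theorem quaternion {X Y z : H} (hz : z * z = 1) (hzc : ∀ t, t * z = z * t) (hX : X * X = z)
    (hY : Y * Y = z) (hXY : X * Y * (X * Y) = z) : Y * X = z * (X * Y) := by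
  have hzi : z⁻¹ = z := inv_eq_of_mul_eq_one_right hz
  calc Y * X = X⁻¹ * (X * Y * (X * Y)) * Y⁻¹ := by group
    _ = X⁻¹ * z * Y⁻¹ := by rw [hXY]
    _ = (X * X)⁻¹ * X * z * Y * (Y * Y)⁻¹ := by group
    _ = z * X * z * Y * z := by rw [hX, hY, hzi]
    _ = z * (X * Y) := by
      rw [hzc (z * X * z * Y), hzc (z * X)]
      simp only [← mul_assoc, hz, one_mul]

/-- In a double cover every good element is the image of a commutator of each of its preimages. -/
theorem exists_commutator (π : H →* alternatingGroup (Fin n)) (hsurj : Function.Surjective π)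
    (hn : 5 ≤ n) (hc : π.ker ≤ Subgroup.center H) (hd : π.ker ≤ commutator H) (hk : Nat.card π.ker = 2)
    (h : H) : ∃ a b : H, a * b * a⁻¹ * b⁻¹ = h := by
  classical
  obtain ⟨z, hz1, hzall⟩ : ∃ z : π.ker, z ≠ 1 ∧ ∀ c : π.ker, c = 1 ∨ c = z := by
    obtain ⟨z, hz, huniq⟩ := (Nat.card_eq_two_iff' (1 : π.ker)).1 hk
    exact ⟨z, hz, fun c => (em (c = 1)).imp_right (huniq c)⟩
  have hall : ∀ c ∈ π.ker, c = 1 ∨ c = (z : H) := fun c hc' =>
    (hzall ⟨c, hc'⟩).imp (fun e => congrArg Subtype.val e) (fun e => congrArg Subtype.val e)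
  have hzc : ∀ t, t * (z : H) = z * t := Subgroup.mem_center_iff.1 (hc z.2)
  have hzz : (z : H) * z = 1 := by
    rcases hall _ (mul_mem z.2 z.2) with e | e
    · exact e
    · exact absurd (Subtype.ext (mul_eq_left.1 e)) hz1
  -- squares of lifts
  have hsqz : ∀ (X : H) (u v w x : Fin n), u ≠ v → u ≠ w → u ≠ x → v ≠ w → v ≠ x → w ≠ x →
      (π X : Perm (Fin n)) = swap u v * swap w x → X * X = z := by
    intro X u v w x h1 h2 h3 h4 h5 h6 hX
    refine (hall _ ?_).resolve_left (sq_ne_one π hsurj hc hd hk h1 h2 h3 h4 h5 h6 hX)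
    rw [MonoidHom.mem_ker, map_mul]
    apply Subtype.ext
    rw [Subgroup.coe_mul, hX, OneMemClass.coe_one]
    ext t
    simp only [mul_apply, swap_apply_def, one_apply]
    grind
  -- the two lifts attached to four points
  have hpair : ∀ u v w x : Fin n, u ≠ v → u ≠ w → u ≠ x → v ≠ w → v ≠ x → w ≠ x →
      ∃ X E : H, (π X : Perm (Fin n)) = swap u v * swap w x ∧
        (π E : Perm (Fin n)) = swap u w * swap v x ∧ E * X = z * (X * E) := by
    intro u v w x h1 h2 h3 h4 h5 h6
    obtain ⟨X, hX⟩ := hsurj (dtA u v w x h1 h6)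
    obtain ⟨E, hE⟩ := hsurj (dtA u w v x h2 h5)
    have hX' : (π X : Perm (Fin n)) = swap u v * swap w x := congrArg Subtype.val hX
    have hE' : (π E : Perm (Fin n)) = swap u w * swap v x := congrArg Subtype.val hE
    refine ⟨X, E, hX', hE', quaternion hzz hzc (hsqz X u v w x h1 h2 h3 h4 h5 h6 hX')
      (hsqz E u w v x h2 h1 h3 h4.symm h6 h5 hE') (hsqz (X * E) u x v w h3 h1 h2 h5.symm h6.symm h4 ?_)⟩
    rw [map_mul, Subgroup.coe_mul, hX', hE']
    ext t
    simp only [mul_apply, swap_apply_def]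
    grind
  by_cases hh : π h = 1
  · rcases hall h hh with rfl | rfl
    · exact ⟨1, 1, by simp⟩
    · obtain ⟨X, E, -, -, he⟩ := hpair ⟨0, by omega⟩ ⟨1, by omega⟩ ⟨2, by omega⟩ ⟨3, by omega⟩
        (by simp) (by simp) (by simp) (by simp) (by simp) (by simp)
      exact ⟨E, X, by rw [he]; group⟩
  obtain ⟨a, b, ha, hb, eab, u, v, w, x, n1, n2, n3, n4, n5, n6, e1, e2, e3, e4⟩ :=
    good_of_even_perm hn (g := (π h : Perm (Fin n))) (mem_alternatingGroup.1 (π h).2)
      (fun e => hh (Subtype.ext e))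
  obtain ⟨X, E, hX, hE, hEX⟩ := hpair u v w x n1 n2 n3 n4 n5 n6
  -- what commutes with the lift of the second double transposition
  have hfix : ∀ r : Perm (Fin n), sign r = 1 → r u = u → r v = v → r w = w → r x = x →
      ∃ R : H, (π R : Perm (Fin n)) = r ∧ E * R = R * E := by
    intro r hr ru rv rw' rx
    let p : Fin n → Prop := fun t => t ≠ u ∧ t ≠ v ∧ t ≠ w ∧ t ≠ x
    let K : Subgroup (Perm (Fin n)) :=
      ((Subgroup.centralizer ({E} : Set H)).map π).map (alternatingGroup (Fin n)).subtype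
    have hp : ∀ t, p (r t) ↔ p t := by
      intro t
      have i : ∀ s, r s = s → (r t = s ↔ t = s) := fun s hs =>
        ⟨fun e => r.injective (e.trans hs.symm), fun e => e ▸ hs⟩
      simp only [p, ne_eq, i u ru, i v rv, i w rw', i x rx]
    have hmov : ∀ t, r t ≠ t → p t := fun t ht =>
      ⟨fun e => ht (e ▸ ru), fun e => ht (e ▸ rv), fun e => ht (e ▸ rw'), fun e => ht (e ▸ rx)⟩
    have hgen : alternatingGroup (Subtype p) ≤ K.comap (ofSubtype : Perm (Subtype p) →* Perm (Fin n)) := by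
      rw [← closure_three_cycles_eq_alternating, Subgroup.closure_le]
      intro y hy
      have hye : sign (ofSubtype y) = 1 := by rw [sign_ofSubtype]; exact hy.sign
      obtain ⟨Y, hY⟩ := hsurj ⟨ofSubtype y, mem_alternatingGroup.2 hye⟩
      have hY' : (π Y : Perm (Fin n)) = ofSubtype y := congrArg Subtype.val hY
      refine ⟨π Y, ⟨Y, ?_, rfl⟩, hY'⟩
      rw [SetLike.mem_coe, Subgroup.mem_centralizer_singleton_iff]
      have hcy : (ofSubtype y).Disjoint (swap u w * swap v x) := by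
        intro t
        by_cases ht : p t
        · exact Or.inr (by rw [mul_apply, swap_apply_of_ne_of_ne ht.2.1 ht.2.2.2,
            swap_apply_of_ne_of_ne ht.1 ht.2.2.1])
        · exact Or.inl (ofSubtype_apply_of_not_mem y ht)
      set c := Y * E * Y⁻¹ * E⁻¹ with hcdef
      have hck : c ∈ π.ker := by
        rw [MonoidHom.mem_ker, hcdef, map_mul, map_mul, map_mul, map_inv, map_inv]
        apply Subtype.ext
        rw [Subgroup.coe_mul, Subgroup.coe_mul, Subgroup.coe_mul, Subgroup.coe_inv, Subgroup.coe_inv,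
          hY', hE, hcy.commute.eq, OneMemClass.coe_one]
        group
      have hY3 : Y ^ 3 ∈ π.ker := by
        rw [MonoidHom.mem_ker, map_pow]
        apply Subtype.ext
        rw [SubgroupClass.coe_pow, hY', ← map_pow, ← hy.orderOf, pow_orderOf_eq_one, map_one,
          OneMemClass.coe_one]
      have hcc : ∀ t, t * c = c * t := Subgroup.mem_center_iff.1 (hc hck)
      have e1 : Y * E * Y⁻¹ = c * E := by rw [hcdef]; group
      have hY1 : Y ^ 3 * E * (Y ^ 3)⁻¹ = c * (c * (c * E)) := by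
        have st : ∀ T, Y * (c * T) * Y⁻¹ = c * (Y * T * Y⁻¹) := by
          intro T; rw [← mul_assoc Y c T, hcc Y]; group
        calc Y ^ 3 * E * (Y ^ 3)⁻¹ = Y * (Y * (Y * E * Y⁻¹) * Y⁻¹) * Y⁻¹ := by
              rw [pow_three]; group
          _ = c * (c * (c * E)) := by rw [e1, st, e1, st, st, e1]
      rw [← Subgroup.mem_center_iff.1 (hc hY3) E, mul_inv_cancel_right] at hY1
      have hc3 : c * (c * c) = 1 := by
        have := hY1.symm
        rw [← mul_assoc, ← mul_assoc, mul_eq_right] at this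
        rw [← mul_assoc]; exact this
      rcases hall c hck with e | e
      · rw [e, one_mul] at e1
        exact (mul_inv_eq_iff_eq_mul.1 e1)
      · rw [e, hzz, mul_one] at hc3
        exact absurd (Subtype.ext hc3) hz1
    have hrk : ofSubtype (r.subtypePerm hp) ∈ K := hgen (mem_alternatingGroup.2 (by
      rw [← sign_ofSubtype (r.subtypePerm hp), ofSubtype_subtypePerm hp hmov, hr]))
    rw [ofSubtype_subtypePerm hp hmov] at hrk
    obtain ⟨_, ⟨R, hR, rfl⟩, e⟩ := hrk
    exact ⟨R, e, (Subgroup.mem_centralizer_singleton_iff.1 hR).symm⟩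
  obtain ⟨d1, d2, d3, d4⟩ := dt_apply n2 n3 n4 n5
  obtain ⟨R, hR, hRE⟩ := hfix (swap u v * swap w x * b)
    (by rw [map_mul, map_mul, sign_swap n1, sign_swap n6, hb]; decide)
    (by rw [mul_apply, e1, d2]) (by rw [mul_apply, e2, d1]) (by rw [mul_apply, e3, d4])
    (by rw [mul_apply, e4, d3])
  obtain ⟨A, hA⟩ := hsurj ⟨a, mem_alternatingGroup.2 ha⟩
  have hA' : (π A : Perm (Fin n)) = a := congrArg Subtype.val hA
  set B := X * R with hB
  have hB' : (π B : Perm (Fin n)) = b := by
    rw [hB, map_mul, Subgroup.coe_mul, hX, hR]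
    ext t
    simp only [mul_apply, swap_apply_def]
    grind
  have hEB : E * B = z * (B * E) := by
    rw [hB, ← mul_assoc, hEX, mul_assoc _ (X * E), mul_assoc X E, hRE]
    group
  have hk' : (A * B * A⁻¹ * B⁻¹)⁻¹ * h ∈ π.ker := by
    rw [MonoidHom.mem_ker, map_mul, map_inv, inv_mul_eq_one, map_mul, map_mul, map_mul, map_inv, map_inv]
    apply Subtype.ext
    simp only [Subgroup.coe_mul, Subgroup.coe_inv, hA', hB', eab]
  rcases hall _ hk' with e | e
  · exact ⟨A, B, inv_mul_eq_one.1 e⟩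
  · refine ⟨A * E, B, ?_⟩
    rw [inv_mul_eq_iff_eq_mul] at e
    calc A * E * B * (A * E)⁻¹ * B⁻¹ = A * (E * B) * E⁻¹ * A⁻¹ * B⁻¹ := by group
      _ = A * z * (B * A⁻¹ * B⁻¹) := by rw [hEB]; group
      _ = A * B * A⁻¹ * B⁻¹ * z := by rw [hzc A, hzc (A * B * A⁻¹ * B⁻¹)]; group
      _ = h := e.symm

end Cfsg.Agent.AltDouble
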