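import Cfsg.Agent.AltDouble.Basic

/-!
# The exceptional small permutations
-/

set_option autoImplicit false
set_option maxRecDepth 4000

namespace Cfsg.Agent.AltDouble

open Equiv Equiv.Perm

def model22 : Perm (Fin 4) :=
  ofLists ![1, 0, 3, 2] ![1, 0, 3, 2] (by decide) (by decide)

theorem good22 : Good model22 :=
  ⟨ofLists ![0, 3, 1, 2] ![0, 2, 3, 1] (by decide) (by decide),
    ofLists ![3, 2, 1, 0] ![3, 2, 1, 0] (by decide) (by decide),
    by decide +kernel, by decide +kernel, by decide +kernel,
    0, 3, 1, 2, by decide, by decide, by decide, by decide, by decide, by decide,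
    by decide, by decide, by decide, by decide⟩

theorem type22 : model22.cycleType = ({2, 2} : Multiset ℕ) := by decide +kernel

theorem full22 : model22.support = Finset.univ := by decide +kernel

def model3 : Perm (Fin 5) :=
  ofLists ![1, 2, 0, 3, 4] ![2, 0, 1, 3, 4] (by decide) (by decide)

theorem good3 : Good model3 :=
  ⟨ofLists ![4, 0, 3, 1, 2] ![1, 3, 4, 2, 0] (by decide) (by decide),
    ofLists ![2, 1, 0, 4, 3] ![2, 1, 0, 4, 3] (by decide) (by decide),
    by decide +kernel, by decide +kernel, by decide +kernel,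
    0, 2, 3, 4, by decide, by decide, by decide, by decide, by decide, by decide,
    by decide, by decide, by decide, by decide⟩

theorem type3 : model3.cycleType = ({3} : Multiset ℕ) := by decide +kernel

def model7 : Perm (Fin 7) :=
  ofLists ![1, 2, 3, 4, 5, 6, 0] ![6, 0, 1, 2, 3, 4, 5] (by decide) (by decide)

theorem good7 : Good model7 :=
  ⟨ofLists ![2, 1, 4, 6, 5, 0, 3] ![5, 1, 0, 6, 2, 4, 3] (by decide) (by decide),
    ofLists ![3, 4, 5, 0, 6, 2, 1] ![3, 6, 5, 0, 1, 2, 4] (by decide) (by decide),
    by decide +kernel, by decide +kernel, by decide +kernel,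
    0, 3, 2, 5, by decide, by decide, by decide, by decide, by decide, by decide,
    by decide, by decide, by decide, by decide⟩

theorem type7 : model7.cycleType = ({7} : Multiset ℕ) := by decide +kernel

theorem full7 : model7.support = Finset.univ := by decide +kernel

def model62 : Perm (Fin 8) :=
  ofLists ![1, 2, 3, 4, 5, 0, 7, 6] ![5, 0, 1, 2, 3, 4, 7, 6] (by decide) (by decide)

theorem good62 : Good model62 :=
  ⟨ofLists ![1, 5, 7, 2, 4, 0, 6, 3] ![5, 0, 3, 7, 4, 1, 6, 2] (by decide) (by decide),
    ofLists ![3, 1, 7, 6, 5, 4, 0, 2] ![6, 1, 7, 0, 5, 4, 3, 2] (by decide) (by decide),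
    by decide +kernel, by decide +kernel, by decide +kernel,
    2, 7, 4, 5, by decide, by decide, by decide, by decide, by decide, by decide,
    by decide, by decide, by decide, by decide⟩

theorem type62 : model62.cycleType = ({6, 2} : Multiset ℕ) := by decide +kernel

theorem full62 : model62.support = Finset.univ := by decide +kernel

def model53 : Perm (Fin 8) :=
  ofLists ![1, 2, 3, 4, 0, 6, 7, 5] ![4, 0, 1, 2, 3, 7, 5, 6] (by decide) (by decide)

theorem good53 : Good model53 :=
  ⟨ofLists ![3, 2, 1, 5, 0, 4, 6, 7] ![4, 2, 1, 0, 5, 3, 6, 7] (by decide) (by decide),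
    ofLists ![6, 0, 2, 5, 7, 3, 1, 4] ![1, 6, 2, 5, 7, 3, 0, 4] (by decide) (by decide),
    by decide +kernel, by decide +kernel, by decide +kernel,
    3, 5, 4, 7, by decide, by decide, by decide, by decide, by decide, by decide,
    by decide, by decide, by decide, by decide⟩

theorem type53 : model53.cycleType = ({5, 3} : Multiset ℕ) := by decide +kernel

theorem full53 : model53.support = Finset.univ := by decide +kernel

def model44 : Perm (Fin 8) :=
  ofLists ![1, 2, 3, 0, 5, 6, 7, 4] ![3, 0, 1, 2, 7, 4, 5, 6] (by decide) (by decide)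

theorem good44 : Good model44 :=
  ⟨ofLists ![1, 0, 4, 5, 2, 7, 6, 3] ![1, 0, 4, 7, 2, 3, 6, 5] (by decide) (by decide),
    ofLists ![6, 5, 2, 4, 7, 1, 0, 3] ![6, 5, 2, 7, 3, 1, 0, 4] (by decide) (by decide),
    by decide +kernel, by decide +kernel, by decide +kernel,
    0, 6, 1, 5, by decide, by decide, by decide, by decide, by decide, by decide,
    by decide, by decide, by decide, by decide⟩

theorem type44 : model44.cycleType = ({4, 4} : Multiset ℕ) := by decide +kernel

theorem full44 : model44.support = Finset.univ := by decide +kernel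

def model333 : Perm (Fin 9) :=
  ofLists ![1, 2, 0, 4, 5, 3, 7, 8, 6] ![2, 0, 1, 5, 3, 4, 8, 6, 7] (by decide) (by decide)

theorem good333 : Good model333 :=
  ⟨ofLists ![6, 8, 2, 4, 5, 1, 3, 7, 0] ![8, 5, 2, 6, 3, 4, 0, 7, 1] (by decide) (by decide),
    ofLists ![8, 5, 3, 1, 7, 6, 2, 4, 0] ![8, 3, 6, 2, 7, 1, 5, 4, 0] (by decide) (by decide),
    by decide +kernel, by decide +kernel, by decide +kernel,
    0, 8, 4, 7, by decide, by decide, by decide, by decide, by decide, by decide,
    by decide, by decide, by decide, by decide⟩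

theorem type333 : model333.cycleType = ({3, 3, 3} : Multiset ℕ) := by decide +kernel

theorem full333 : model333.support = Finset.univ := by decide +kernel

def model432 : Perm (Fin 9) :=
  ofLists ![1, 2, 3, 0, 5, 6, 4, 8, 7] ![3, 0, 1, 2, 6, 4, 5, 8, 7] (by decide) (by decide)

theorem good432 : Good model432 :=
  ⟨ofLists ![7, 3, 0, 6, 1, 4, 8, 5, 2] ![2, 4, 8, 1, 5, 7, 3, 0, 6] (by decide) (by decide),
    ofLists ![0, 3, 4, 5, 2, 1, 6, 8, 7] ![0, 5, 4, 1, 2, 3, 6, 8, 7] (by decide) (by decide),
    by decide +kernel, by decide +kernel, by decide +kernel,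
    2, 4, 7, 8, by decide, by decide, by decide, by decide, by decide, by decide,
    by decide, by decide, by decide, by decide⟩

theorem type432 : model432.cycleType = ({4, 3, 2} : Multiset ℕ) := by decide +kernel

theorem full432 : model432.support = Finset.univ := by decide +kernel

def model522 : Perm (Fin 9) :=
  ofLists ![1, 2, 3, 4, 0, 6, 5, 8, 7] ![4, 0, 1, 2, 3, 6, 5, 8, 7] (by decide) (by decide)

theorem good522 : Good model522 :=
  ⟨ofLists ![4, 0, 3, 6, 2, 8, 1, 7, 5] ![1, 6, 4, 2, 0, 8, 3, 7, 5] (by decide) (by decide),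
    ofLists ![7, 5, 6, 0, 8, 1, 3, 2, 4] ![3, 5, 7, 6, 8, 1, 2, 0, 4] (by decide) (by decide),
    by decide +kernel, by decide +kernel, by decide +kernel,
    1, 5, 4, 8, by decide, by decide, by decide, by decide, by decide, by decide,
    by decide, by decide, by decide, by decide⟩

theorem type522 : model522.cycleType = ({5, 2, 2} : Multiset ℕ) := by decide +kernel

theorem full522 : model522.support = Finset.univ := by decide +kernel

end Cfsg.Agent.AltDouble
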